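import Mathlib.Algebra.Category.ModuleCat.Sheaf.Free
import Mathlib.Algebra.Category.ModuleCat.Sheaf.Abelian
import Mathlib.Algebra.Homology.ShortComplex.ShortExact

/-!
# Extensions of modules generated by sections
-/

set_option autoImplicit false

universe u v₁ u₁

open CategoryTheory Limits

namespace Groth.Agent.GGLift

variable {C : Type u₁} [Category.{v₁} C] {J : GrothendieckTopology C} {R : Sheaf J RingCat.{u}}
  [HasSheafify J AddCommGrpCat.{u}] [J.WEqualsLocallyBijective AddCommGrpCat.{u}]

/-- An extension of modules generated by sections, whose map on sections is surjective, is generated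
by sections. -/
theorem exists_epi_free {S : ShortComplex (SheafOfModules.{u} R)} (hS : S.ShortExact)
    (hsurj : ∀ s : S.X₃.sections, ∃ t : S.X₂.sections, SheafOfModules.sectionsMap S.g t = s)
    {ι₁ ι₃ : Type u} (p₁ : SheafOfModules.free ι₁ ⟶ S.X₁) [Epi p₁]
    (p₃ : SheafOfModules.free ι₃ ⟶ S.X₃) [Epi p₃] :
    ∃ q : SheafOfModules.free (ι₁ ⊕ ι₃) ⟶ S.X₂, Epi q := by
  choose t ht using fun i ↦ hsurj (S.X₃.freeHomEquiv p₃ i)
  let q := S.X₂.freeHomEquiv.symm (Sum.elim (S.X₂.freeHomEquiv (p₁ ≫ S.f)) t)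
  have hl : SheafOfModules.freeMap Sum.inl ≫ q = p₁ ≫ S.f := by
    apply S.X₂.freeHomEquiv.injective
    funext i
    rw [SheafOfModules.freeHomEquiv_apply, SheafOfModules.sectionsMap_comp,
      SheafOfModules.sectionMap_freeMap_freeSection]
    exact SheafOfModules.sectionsMap_freeHomEquiv_symm_freeSection _ _
  have hr : SheafOfModules.freeMap Sum.inr ≫ q ≫ S.g = p₃ := by
    apply S.X₃.freeHomEquiv.injective
    funext i
    rw [SheafOfModules.freeHomEquiv_apply, SheafOfModules.sectionsMap_comp,
      SheafOfModules.sectionsMap_comp, SheafOfModules.sectionMap_freeMap_freeSection,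
      SheafOfModules.sectionsMap_freeHomEquiv_symm_freeSection]
    exact ht i
  refine ⟨q, Preadditive.epi_of_cancel_zero _ fun {Z} h hh ↦ ?_⟩
  have hf : S.f ≫ h = 0 := by
    rw [← cancel_epi p₁, comp_zero, ← Category.assoc, ← hl, Category.assoc, hh, comp_zero]
  obtain ⟨r, hr'⟩ := CokernelCofork.IsColimit.desc' hS.gIsCokernel h hf
  have hr'' : S.g ≫ r = h := hr'
  have : r = 0 := by
    rw [← cancel_epi p₃, ← hr, Category.assoc, Category.assoc, hr'', hh, comp_zero, comp_zero]
  rw [← hr'', this, comp_zero]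

end Groth.Agent.GGLift
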